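import Groth.Agent.Sga5.H861.Res
import Groth.Agent.Sga4h.H556.Cl
import Groth.Agent.Sga4h.H556.HcEq

/-!
# `R^i(X) = Ext^i(Λ_X, Λ_X)` and `H^i(X, M)` (constant coefficients), `Λ = ULift M`

* `tr M X i : R (ULift M) X i ≃+ HH X (EtCoh.const X M) i` (`HH X F i` is `EtCoh.H X F i`);
* `tr_res`, `res_symm`: `res f i` corresponds to `hc M f i` (`= DualShape.HpullConst f M i`), every `f`;
* `hc_fg_eq_zero`, `res_symm_fg`: a class coming from `HS M O i` restricts to zero over `O`;
* `exists_fg`: a class of `R^i(Y)` with zero restriction to `O` comes from `HS M O i`;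
* `symm_fg`: compatibility of the pull-back of classes with supports (`plc`) and `res`;
* `tr_zsmul`, `tr_smul`: scalars (`M = ZMod n`); `lin I`: the linear form on `R^i(X)` attached to
  `I : H^i(X, ℤ/n) ≃+ ZMod n`.
-/

set_option autoImplicit false

universe u

open CategoryTheory CategoryTheory.Limits CategoryTheory.Abelian AlgebraicGeometry Opposite

namespace Groth.Agent.Vancyc.H158.Tr

open Groth.Agent.Etrest.ModAb Groth.Agent.Etcore Groth.Agent.Etcore.EtInst
open Groth.Agent.Etcore.HpullCalc Groth.Agent.Sga4h.H915.Dict Groth.Agent.Sga4h.H915.DictConst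
open Groth.Agent.Sga5.H861.Res Groth.Agent.Sga4h.H556.Supp Groth.Agent.Sga4B.DualShape
open Groth.Agent.Sga4h.H556.Cl
open scoped Groth.Agent.Etcore.EtInst Groth.Agent.Sga4B.ModEtInst

section Abs

variable {n : ℕ}

theorem smul_eq_zsmul {A : Type*} [AddCommGroup A] [Module (ULift.{u + 1} (ZMod n)) A]
    (r : ULift.{u + 1} (ZMod n)) (x : A) : r • x = (r.down.cast : ℤ) • x := by
  have h : r = (((r.down.cast : ℤ)) : ULift.{u + 1} (ZMod n)) := by
    apply ULift.ext
    exact (ZMod.intCast_zmod_cast r.down).symm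
  conv_lhs => rw [h]
  exact Int.cast_smul_eq_zsmul _ _ _

theorem map_smul_of_add {A B : Type*} [AddCommGroup A] [AddCommGroup B]
    [Module (ULift.{u + 1} (ZMod n)) A] (t : A →+ B) (r : ULift.{u + 1} (ZMod n)) (x : A) :
    t (r • x) = (r.down.cast : ℤ) • t x := by
  rw [smul_eq_zsmul, map_zsmul]

/-- An additive isomorphism onto `ZMod n` as a linear one. -/
noncomputable def linAbs {A B : Type*} [AddCommGroup A] [AddCommGroup B]
    [Module (ULift.{u + 1} (ZMod n)) A] (t : A ≃+ B) (I : B ≃+ ZMod n) :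
    A ≃ₗ[ULift.{u + 1} (ZMod n)] ULift.{u + 1} (ZMod n) where
  toFun x := ULift.up (I (t x))
  invFun y := t.symm (I.symm y.down)
  left_inv x := by simp
  right_inv y := by simp
  map_add' x y := by
    rw [map_add, map_add]
    rfl
  map_smul' r x := by
    have h : I (t (r • x)) = (r.down.cast : ℤ) • I (t x) := by
      rw [smul_eq_zsmul, map_zsmul, map_zsmul]
    rw [h, RingHom.id_apply, smul_eq_zsmul r (ULift.up.{u + 1} (I (t x)))]
    rfl

end Abs

section General

variable (M : Type) [CommRing M] {X Y Z U : Scheme.{u}}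

/-- **The comparison isomorphism** `Ext^i(Λ_X, Λ_X) ≃ H^i(X, M)`, `Λ = ULift M`. -/
noncomputable def tr (X : Scheme.{u}) (i : ℕ) :
    R (ULift.{u + 1} M) X i ≃+ HH X (EtCoh.const X M) i :=
  cmpC (Λ := ULift.{u + 1} M) (X := X) i

/-- **Compatibility with inverse images.** -/
theorem tr_res (f : X ⟶ Y) (i : ℕ) (x : R (ULift.{u + 1} M) Y i) :
    tr M X i (res f i x) = hc M f i (tr M Y i x) := by
  have i1 : PreservesFiniteLimits (EtCoh.pull f) := Groth.Agent.S0101.result f
  rw [hc_apply]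
  exact cmpC_res (Λ := ULift.{u + 1} M) f i x

theorem res_symm (f : X ⟶ Y) (i : ℕ) (y : HH Y (EtCoh.const Y M) i) :
    res f i ((tr M Y i).symm y) = (tr M X i).symm (hc M f i y) := by
  rw [AddEquiv.eq_symm_apply, tr_res, AddEquiv.apply_symm_apply]

theorem res_eq_zero_iff_hc (f : X ⟶ Y) (i : ℕ) (x : R (ULift.{u + 1} M) Y i) :
    res f i x = 0 ↔ hc M f i (tr M Y i x) = 0 := by
  rw [← tr_res, map_eq_zero_iff _ (tr M X i).injective]

/-- The same with `DualShape.HpullConst`. -/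
theorem tr_res_HpullConst (f : X ⟶ Y) (i : ℕ) (x : R (ULift.{u + 1} M) Y i) :
    @Eq (HH X (EtCoh.const X M) i) (tr M X i (res f i x)) (HpullConst f M i (tr M Y i x)) :=
  (tr_res M f i x).trans (HpullConst_apply M f i _).symm

/-- A class with supports in the complement of `O` dies on every `X ⟶ O ⊆ Y`. -/
theorem hc_fg_eq_zero (g : X ⟶ Y) {O : Y.Opens} (h : ⊤ ≤ g ⁻¹ᵁ O) (m : ℕ) (c : HS M O m) :
    hc M g m (fg O _ m c) = 0 := by
  rw [← fg_plc M g h m c, eq_zero_of_top rfl _ m (plc M g h m c), map_zero]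

/-- **A class with supports in the complement of `O` restricts to zero over `O`.** -/
theorem res_symm_fg (g : X ⟶ Y) {O : Y.Opens} (h : ⊤ ≤ g ⁻¹ᵁ O) (m : ℕ) (c : HS M O m) :
    res g m ((tr M Y m).symm (fg O _ m c)) = 0 := by
  rw [res_symm, hc_fg_eq_zero M g h, map_zero]

/-- Pull-back of classes with supports and `res`. -/
theorem symm_fg (g : X ⟶ Y) {O : Y.Opens} {O' : X.Opens} (h : O' ≤ g ⁻¹ᵁ O) (m : ℕ)
    (c : HS M O m) :
    res g m ((tr M Y m).symm (fg O _ m c)) = (tr M X m).symm (fg O' _ m (plc M g h m c)) := by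
  rw [res_symm, fg_plc]

/-- A class of `R^m(Y)` which restricts to zero over `O` has supports in the complement of `O`. -/
theorem exists_fg {O : Y.Opens} (m : ℕ) (x : R (ULift.{u + 1} M) Y m) (hx : res O.ι m x = 0) :
    ∃ c : HS M O m, (tr M Y m).symm (fg O _ m c) = x := by
  obtain ⟨c, hc⟩ := exists_fg_const (O := O) M m (tr M Y m x) ((res_eq_zero_iff_hc M O.ι m x).1 hx)
  exact ⟨c, by rw [hc, AddEquiv.symm_apply_apply]⟩

theorem natCard_eq (X : Scheme.{u}) (i : ℕ) :
    Nat.card (R (ULift.{u + 1} M) X i) = Nat.card (HH X (EtCoh.const X M) i) :=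
  Nat.card_congr (tr M X i).toEquiv

end General

section ZMod

variable {n : ℕ} {X Y : Scheme.{u}}

/-- Scalars, `M = ZMod n`. -/
theorem tr_zsmul (i : ℕ) (r : ULift.{u + 1} (ZMod n)) (x : R (ULift.{u + 1} (ZMod n)) X i) :
    tr (ZMod n) X i (r • x) = (r.down.cast : ℤ) • tr (ZMod n) X i x :=
  map_smul_of_add (tr (ZMod n) X i).toAddMonoidHom r x

/-- The linear form on `R^i(X)` attached to an isomorphism `H^i(X, ℤ/n) ≃ ℤ/n`. -/
noncomputable def lin {i : ℕ} (I : HH X (EtCoh.const X (ZMod n)) i ≃+ ZMod n) :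
    R (ULift.{u + 1} (ZMod n)) X i ≃ₗ[ULift.{u + 1} (ZMod n)] ULift.{u + 1} (ZMod n) :=
  linAbs (tr (ZMod n) X i) I

theorem lin_apply {i : ℕ} (I : HH X (EtCoh.const X (ZMod n)) i ≃+ ZMod n)
    (x : R (ULift.{u + 1} (ZMod n)) X i) : lin I x = ULift.up (I (tr (ZMod n) X i x)) := rfl

theorem lin_res_symm {i : ℕ} (I : HH X (EtCoh.const X (ZMod n)) i ≃+ ZMod n) (f : X ⟶ Y)
    (y : HH Y (EtCoh.const Y (ZMod n)) i) :
    lin I (res f i ((tr (ZMod n) Y i).symm y)) = ULift.up (I (hc (ZMod n) f i y)) := by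
  rw [lin_apply, res_symm, AddEquiv.apply_symm_apply]

end ZMod

end Groth.Agent.Vancyc.H158.Tr
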