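import Groth.Agent.Vancyc.H158.TrLam
import Groth.Prelude.Def_Milnor
import Mathlib.AlgebraicGeometry.Morphisms.Separated

/-!
# (B1) of the Gauss-Bonnet formula: from `Ext(Λ, Λ)` to `H^i(-, ℤ/n)`

From the statement (B1) in the formalism `R^i(X) = Ext^i(Λ_X, Λ_X)`: `to_hc` is the same
statement in `HH X (EtCoh.const X (ZMod n))` with the pull-backs `hc`, `to_hs` the one for a class
with supports in the diagonal (`HS`, `fg`, `plc` of `H556.Supp`).  (`B1WrapH.to_hpull`: the form with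
`EtCoh.H` and `DualShape.HpullConst`.)
-/

set_option autoImplicit false

universe u

open CategoryTheory CategoryTheory.Limits CategoryTheory.Abelian AlgebraicGeometry Opposite

namespace Groth.Agent.Vancyc.H158.B1Wrap

open Groth.Agent.Etcore.EtInst Groth.Agent.Sga4B.DualShape
open Groth.Agent.Sga5.H861 Groth.Agent.Sga5.H861.DualAbs
open Groth.Agent.Sga4h.H556.Supp Groth.Agent.Vancyc.H158.Tr Groth.Agent.Vancyc.H158.TrLam
open scoped Groth.Agent.Etcore.EtInst Groth.Agent.Sga4B.ModEtInst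

variable {k : Type u} [Field k] {X : Scheme.{u}} {a : X ⟶ Spec (CommRingCat.of k)}

/-- (B1) in `H^i(-, ℤ/ℓ^N)`. -/
theorem to_hc {d ℓ : ℕ} (H : (∃ e : ℕ, ∀ (N : ℕ) (c : Res.R (Lam.{u} (ℓ ^ N)) (pullback a a) (2 * d))
      (t : Res.R (Lam.{u} (ℓ ^ N)) X (2 * d) →+ ZMod (ℓ ^ N))
      (x : Spec (CommRingCat.of k) ⟶ X) (s : X ⟶ pullback a a)
      (_hs1 : s ≫ pullback.fst a a = a ≫ x) (_hs2 : s ≫ pullback.snd a a = 𝟙 X),
      (∀ {U : Scheme.{u}} (j : U ⟶ pullback a a) [IsOpenImmersion j],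
        IsCompl (Set.range (pullback.diagonal a)) (Set.range j) → Res.res j (2 * d) c = 0) →
      t (Res.res s (2 * d) c) = 1 →
      (ℓ : ZMod (ℓ ^ N)) ^ e * t (Res.res (pullback.diagonal a) (2 * d) c) =
        (ℓ : ZMod (ℓ ^ N)) ^ e * ((VanCyc.euler ℓ X (2 * d) : ℤ) : ZMod (ℓ ^ N)))) :
    ∃ e : ℕ, ∀ (N : ℕ) (c : HH (pullback a a) (EtCoh.const _ (ZMod (ℓ ^ N))) (2 * d))
      (t : HH X (EtCoh.const X (ZMod (ℓ ^ N))) (2 * d) →+ ZMod (ℓ ^ N))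
      (x : Spec (CommRingCat.of k) ⟶ X) (s : X ⟶ pullback a a)
      (_hs1 : s ≫ pullback.fst a a = a ≫ x) (_hs2 : s ≫ pullback.snd a a = 𝟙 X),
      (∀ {U : Scheme.{u}} (j : U ⟶ pullback a a) [IsOpenImmersion j],
        IsCompl (Set.range (pullback.diagonal a)) (Set.range j) →
          hc (ZMod (ℓ ^ N)) j (2 * d) c = 0) →
      t (hc (ZMod (ℓ ^ N)) s (2 * d) c) = 1 →
      (ℓ : ZMod (ℓ ^ N)) ^ e * t (hc (ZMod (ℓ ^ N)) (pullback.diagonal a) (2 * d) c) =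
        (ℓ : ZMod (ℓ ^ N)) ^ e * ((VanCyc.euler ℓ X (2 * d) : ℤ) : ZMod (ℓ ^ N)) := by
  obtain ⟨e, he⟩ := H
  refine ⟨e, fun N c t x s hs1 hs2 h0 h1 => ?_⟩
  have h := he N ((trL (ℓ ^ N) _ (2 * d)).symm c)
    (t.comp (trL (ℓ ^ N) X (2 * d)).toAddMonoidHom) x s hs1 hs2
    (fun j hj1 hj => by rw [resL_symm, h0 j hj, map_zero])
    (by
      rw [resL_symm]
      exact (congrArg t (AddEquiv.apply_symm_apply _ _)).trans h1)
  rw [resL_symm] at h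
  exact (congrArg (fun z => (ℓ : ZMod (ℓ ^ N)) ^ e * t z)
    (AddEquiv.apply_symm_apply (trL (ℓ ^ N) X (2 * d)) _).symm).trans h

/-- (B1) for a class with supports in the diagonal. -/
theorem to_hs {d ℓ : ℕ} (H :
    ∃ e : ℕ, ∀ (N : ℕ) (c : HH (pullback a a) (EtCoh.const _ (ZMod (ℓ ^ N))) (2 * d))
      (t : HH X (EtCoh.const X (ZMod (ℓ ^ N))) (2 * d) →+ ZMod (ℓ ^ N))
      (x : Spec (CommRingCat.of k) ⟶ X) (s : X ⟶ pullback a a)
      (_hs1 : s ≫ pullback.fst a a = a ≫ x) (_hs2 : s ≫ pullback.snd a a = 𝟙 X),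
      (∀ {U : Scheme.{u}} (j : U ⟶ pullback a a) [IsOpenImmersion j],
        IsCompl (Set.range (pullback.diagonal a)) (Set.range j) →
          hc (ZMod (ℓ ^ N)) j (2 * d) c = 0) →
      t (hc (ZMod (ℓ ^ N)) s (2 * d) c) = 1 →
      (ℓ : ZMod (ℓ ^ N)) ^ e * t (hc (ZMod (ℓ ^ N)) (pullback.diagonal a) (2 * d) c) =
        (ℓ : ZMod (ℓ ^ N)) ^ e * ((VanCyc.euler ℓ X (2 * d) : ℤ) : ZMod (ℓ ^ N))) :
    ∃ e : ℕ, ∀ (N : ℕ) (O : (pullback a a).Opens)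
      (_hO : (O : Set ↥(pullback a a)) = (Set.range (pullback.diagonal a))ᶜ)
      (c : HS (ZMod (ℓ ^ N)) O (2 * d))
      (t : HH X (EtCoh.const X (ZMod (ℓ ^ N))) (2 * d) →+ ZMod (ℓ ^ N))
      (x : Spec (CommRingCat.of k) ⟶ X) (s : X ⟶ pullback a a)
      (_hs1 : s ≫ pullback.fst a a = a ≫ x) (_hs2 : s ≫ pullback.snd a a = 𝟙 X),
      t (hc (ZMod (ℓ ^ N)) s (2 * d) (fg O _ (2 * d) c)) = 1 →
      (ℓ : ZMod (ℓ ^ N)) ^ e *
          t (hc (ZMod (ℓ ^ N)) (pullback.diagonal a) (2 * d) (fg O _ (2 * d) c)) =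
        (ℓ : ZMod (ℓ ^ N)) ^ e * ((VanCyc.euler ℓ X (2 * d) : ℤ) : ZMod (ℓ ^ N)) := by
  obtain ⟨e, he⟩ := H
  refine ⟨e, fun N O hO c t x s hs1 hs2 h1 => he N _ t x s hs1 hs2 (fun j hj1 hj => ?_) h1⟩
  refine hc_fg_eq_zero (ZMod (ℓ ^ N)) j (fun y _ => ?_) (2 * d) c
  change j y ∈ (O : Set ↥(pullback a a))
  rw [hO]
  exact fun hy => Set.disjoint_left.1 hj.disjoint hy ⟨y, rfl⟩

end Groth.Agent.Vancyc.H158.B1Wrap
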