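import Groth.Agent.Vancyc.H158.B1Wrap

/-!
# (B1) of the Gauss-Bonnet formula with `EtCoh.H` and `DualShape.HpullConst`
-/

set_option autoImplicit false

universe u

open CategoryTheory CategoryTheory.Limits CategoryTheory.Abelian AlgebraicGeometry Opposite

namespace Groth.Agent.Vancyc.H158.B1WrapH

open Groth.Agent.Etcore.EtInst Groth.Agent.Sga4B.DualShape
open Groth.Agent.Sga4h.H556.Supp
open scoped Groth.Agent.Etcore.EtInst Groth.Agent.Sga4B.ModEtInst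

variable {k : Type u} [Field k] {X : Scheme.{u}} {a : X ⟶ Spec (CommRingCat.of k)}

/-- (B1) with `EtCoh.H` and `HpullConst`. -/
theorem to_hpull {d ℓ : ℕ} (H :
    ∃ e : ℕ, ∀ (N : ℕ) (c : HH (pullback a a) (EtCoh.const _ (ZMod (ℓ ^ N))) (2 * d))
      (t : HH X (EtCoh.const X (ZMod (ℓ ^ N))) (2 * d) →+ ZMod (ℓ ^ N))
      (x : Spec (CommRingCat.of k) ⟶ X) (s : X ⟶ pullback a a)
      (_hs1 : s ≫ pullback.fst a a = a ≫ x) (_hs2 : s ≫ pullback.snd a a = 𝟙 X),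
      (∀ {U : Scheme.{u}} (j : U ⟶ pullback a a) [IsOpenImmersion j],
        IsCompl (Set.range (pullback.diagonal a)) (Set.range j) →
          hc (ZMod (ℓ ^ N)) j (2 * d) c = 0) →
      t (hc (ZMod (ℓ ^ N)) s (2 * d) c) = 1 →
      (ℓ : ZMod (ℓ ^ N)) ^ e * t (hc (ZMod (ℓ ^ N)) (pullback.diagonal a) (2 * d) c) =
        (ℓ : ZMod (ℓ ^ N)) ^ e * ((VanCyc.euler ℓ X (2 * d) : ℤ) : ZMod (ℓ ^ N))) :
    ∃ e : ℕ, ∀ (N : ℕ) (c : EtCoh.H (pullback a a) (EtCoh.const _ (ZMod (ℓ ^ N))) (2 * d))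
      (t : EtCoh.H X (EtCoh.const X (ZMod (ℓ ^ N))) (2 * d) →+ ZMod (ℓ ^ N))
      (x : Spec (CommRingCat.of k) ⟶ X) (s : X ⟶ pullback a a)
      (_hs1 : s ≫ pullback.fst a a = a ≫ x) (_hs2 : s ≫ pullback.snd a a = 𝟙 X),
      (∀ {U : Scheme.{u}} (j : U ⟶ pullback a a) [IsOpenImmersion j]
        [PreservesFiniteLimits (EtCoh.pull j)],
        IsCompl (Set.range (pullback.diagonal a)) (Set.range j) →
          HpullConst j (ZMod (ℓ ^ N)) (2 * d) c = 0) →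
      (∀ [PreservesFiniteLimits (EtCoh.pull s)], t (HpullConst s (ZMod (ℓ ^ N)) (2 * d) c) = 1) →
      ∀ [PreservesFiniteLimits (EtCoh.pull (pullback.diagonal a))],
      (ℓ : ZMod (ℓ ^ N)) ^ e * t (HpullConst (pullback.diagonal a) (ZMod (ℓ ^ N)) (2 * d) c) =
        (ℓ : ZMod (ℓ ^ N)) ^ e * ((VanCyc.euler ℓ X (2 * d) : ℤ) : ZMod (ℓ ^ N)) := by
  obtain ⟨e, he⟩ := H
  refine ⟨e, fun N c t x s hs1 hs2 h0 h1 => ?_⟩
  intro i0
  have h := he N c t x s hs1 hs2 (fun j hj1 hj => ?_) ?_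
  · exact (congrArg (fun z => (ℓ : ZMod (ℓ ^ N)) ^ e * t z)
      (HpullConst_apply (ZMod (ℓ ^ N)) (pullback.diagonal a) (2 * d) c)).trans h
  · have i1 : PreservesFiniteLimits (EtCoh.pull j) := Groth.Agent.S0101.result j
    exact (HpullConst_apply (ZMod (ℓ ^ N)) j (2 * d) c).symm.trans (h0 j hj)
  · have i1 : PreservesFiniteLimits (EtCoh.pull s) := Groth.Agent.S0101.result s
    exact (congrArg t (HpullConst_apply (ZMod (ℓ ^ N)) s (2 * d) c).symm).trans h1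

end Groth.Agent.Vancyc.H158.B1WrapH
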