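import Groth.Agent.Vancyc.H327.Supp
import Groth.Agent.Sga4h.H556.Decomp
import Groth.Agent.Sga4h.H556.HcEq

/-!
# Bridge between the two versions of cohomology with supports, `H327.Supp` and `H556.Supp`

* `zq O : H327.ZQ O ≅ Supp.ZQ O`, `ZQπ_zq`, `zπ_zq_inv`, `bQ_zq`;
* `hs M O q : Supp.HS M O q ≃+ H327.HS M O q`, `hs_plc`, `hs_symm_pull`, `forget_hs`, `fg_hs_symm`,
  `hpull_eq_hc`;
* the results of `H556` for `H327.HS`: étale excision `pull_bijective_of_exc`, `exists_decomp`,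
  `exists_decomp_finset`.
-/

set_option autoImplicit false

universe u

open CategoryTheory CategoryTheory.Limits AlgebraicGeometry Opposite Abelian

namespace Groth.Agent.Vancyc.H158.Bridge

open Groth.Agent.Etcore.EtInst Groth.Agent.Etcore.MVShriek Groth.Agent.Sga4B
open Groth.Agent.Sga4h.H556
open scoped Groth.Agent.Etcore.EtInst

noncomputable section

variable {X Y Z : Scheme.{u}}

theorem c_zπ (O : X.Opens) : c O.ι (EtCoh.const X ℤ) ≫ Supp.zπ O = 0 :=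
  have := Sga4h.EtaleRes.jCont O.ι
  (Cl.c_comp_eq_zero_iff O (Supp.zπ O)).2 (Supp.zin_zπ O)

theorem zin_ZQπ (O : X.Opens) : Supp.zin O ≫ H327.ZQπ O = 0 :=
  have := Sga4h.EtaleRes.jCont O.ι
  (Cl.c_comp_eq_zero_iff O (H327.ZQπ O)).1 (H327.c_ZQπ O)

/-- **The isomorphism between the two quotients** `ℤ_X / ℤ[O]`. -/
def zq (O : X.Opens) : H327.ZQ O ≅ Supp.ZQ O where
  hom := cokernel.desc _ (Supp.zπ O) (c_zπ O)
  inv := cokernel.desc _ (H327.ZQπ O) (zin_ZQπ O)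
  hom_inv_id := by
    have h1 : H327.ZQπ O ≫ cokernel.desc _ (Supp.zπ O) (c_zπ O) = Supp.zπ O :=
      cokernel.π_desc _ _ _
    have h2 : Supp.zπ O ≫ cokernel.desc _ (H327.ZQπ O) (zin_ZQπ O) = H327.ZQπ O :=
      cokernel.π_desc _ _ _
    rw [← cancel_epi (H327.ZQπ O), ← Category.assoc, h1, h2, Category.comp_id]
  inv_hom_id := by
    have h1 : H327.ZQπ O ≫ cokernel.desc _ (Supp.zπ O) (c_zπ O) = Supp.zπ O :=
      cokernel.π_desc _ _ _
    have h2 : Supp.zπ O ≫ cokernel.desc _ (H327.ZQπ O) (zin_ZQπ O) = H327.ZQπ O :=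
      cokernel.π_desc _ _ _
    rw [← cancel_epi (Supp.zπ O), ← Category.assoc, h2, h1, Category.comp_id]

theorem ZQπ_zq (O : X.Opens) : H327.ZQπ O ≫ (zq O).hom = Supp.zπ O := cokernel.π_desc _ _ _

theorem zπ_zq_inv (O : X.Opens) : Supp.zπ O ≫ (zq O).inv = H327.ZQπ O := cokernel.π_desc _ _ _

/-- Compatibility with inverse images. -/
theorem bQ_zq (f : X ⟶ Y) {O' : X.Opens} {O : Y.Opens} (h : O' ≤ f ⁻¹ᵁ O) :
    H327.bQ f h ≫ (EtCoh.pull f).map (zq O).hom = (zq O').hom ≫ Supp.bq f h := by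
  rw [← cancel_epi (H327.ZQπ O'), ← Category.assoc, H327.ZQπ_bQ, Category.assoc,
    ← Functor.map_comp, ZQπ_zq, ← Category.assoc, ZQπ_zq, Supp.zπ_bq]

variable (M : Type) [AddCommGroup M]

/-- **The comparison isomorphism** of cohomology with supports. -/
def hs (O : X.Opens) (q : ℕ) : Supp.HS M O q ≃+ H327.HS M O q :=
  AddEquiv.ofBijective ((Ext.mk₀ (zq O).hom).precomp (EtCoh.const X M) (zero_add q))
    (Exc.bijective_precomp (zq O).hom (EtCoh.const X M) q)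

theorem hs_apply (O : X.Opens) (q : ℕ) (e : Supp.HS M O q) :
    hs M O q e = (Ext.mk₀ (zq O).hom).comp e (zero_add q) := rfl

/-- Compatibility with pull-backs. -/
theorem hs_plc (f : X ⟶ Y) {O' : X.Opens} {O : Y.Opens} (h : O' ≤ f ⁻¹ᵁ O) (q : ℕ)
    (e : Supp.HS M O q) :
    hs M O' q (Supp.plc M f h q e) = H327.HS.pull M f h q (hs M O q e) := by
  rw [H327.HS.pull_apply, hs_apply, hs_apply]
  change (Ext.mk₀ (zq O').hom).comp ((ExtCmp.cmp (EtCoh.pull f) (Supp.bq f h) (EtCoh.const Y M) q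
    e).comp (Ext.mk₀ (EtCore.pullConst f M).hom) (add_zero q)) (zero_add q) = _
  rw [ExtCmp.cmp_apply, ExtCmp.cmp_apply, Ext.mapExactFunctor_comp, Ext.mapExactFunctor_mk₀,
    ← Ext.comp_assoc_of_third_deg_zero, Ext.mk₀_comp_mk₀_assoc, Ext.mk₀_comp_mk₀_assoc, bQ_zq]

theorem hs_symm_pull (f : X ⟶ Y) {O' : X.Opens} {O : Y.Opens} (h : O' ≤ f ⁻¹ᵁ O) (q : ℕ)
    (e : H327.HS M O q) :
    (hs M O' q).symm (H327.HS.pull M f h q e) = Supp.plc M f h q ((hs M O q).symm e) := by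
  rw [AddEquiv.symm_apply_eq, hs_plc, AddEquiv.apply_symm_apply]

/-- Compatibility with forgetting the support. -/
theorem forget_hs (O : X.Opens) (q : ℕ) (e : Supp.HS M O q) :
    H327.HS.forget M O q (hs M O q e) = Supp.fg O (EtCoh.const X M) q e := by
  rw [H327.HS.forget_apply, hs_apply, Supp.fg_apply, Ext.mk₀_comp_mk₀_assoc, ZQπ_zq]

theorem fg_hs_symm (O : X.Opens) (q : ℕ) (e : H327.HS M O q) :
    Supp.fg O (EtCoh.const X M) q ((hs M O q).symm e) = H327.HS.forget M O q e := by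
  rw [← forget_hs, AddEquiv.apply_symm_apply]

theorem hpull_eq_hc (f : X ⟶ Y) (q : ℕ) (e : HH Y (EtCoh.const Y M) q) :
    H327.hpull M f q e = Supp.hc M f q e := rfl

/-! ### Consequences for `H327.HS` -/

/-- **Étale excision.** -/
theorem pull_bijective_of_exc {V : Scheme.{u}} (w : V ⟶ Y) [Etale w] {O : Y.Opens}
    (hE : Glue.ExcCond O (Scheme.Etale.mk w)) (q : ℕ) :
    Function.Bijective (H327.HS.pull M w (le_refl (w ⁻¹ᵁ O)) q) := by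
  have h : ⇑(H327.HS.pull M w (le_refl (w ⁻¹ᵁ O)) q) =
      ⇑(hs M (w ⁻¹ᵁ O) q) ∘ ⇑(Supp.plc M w (le_refl (w ⁻¹ᵁ O)) q) ∘ ⇑(hs M O q).symm := by
    funext e
    rw [Function.comp_apply, Function.comp_apply, ← hs_symm_pull, AddEquiv.apply_symm_apply]
  rw [h]
  exact (hs M _ q).bijective.comp ((Exc.plc_bijective M w hE q).comp (hs M O q).symm.bijective)

/-- Restriction of supports is the pull-back along the identity. -/
theorem rs_eq_plc {O' O : Y.Opens} (h : O' ≤ O) (h' : O' ≤ 𝟙 Y ⁻¹ᵁ O) (q : ℕ)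
    (e : Supp.HS M O q) : Cl.rs h (EtCoh.const Y M) q e = Supp.plc M (𝟙 Y) h' q e := by
  have h1 := Cl.rs_pl (𝟙 Y) h (le_refl O : O ≤ 𝟙 Y ⁻¹ᵁ O) h' (EtCore.pullConst (𝟙 Y) M).hom q e
  have h2 : Supp.plc M (𝟙 Y) (le_refl O : O ≤ 𝟙 Y ⁻¹ᵁ O) q e = e := Cl.plc_id M _ q e
  refine Eq.trans ?_ h1
  exact congrArg (Cl.rs h (EtCoh.const Y M) q) h2.symm

theorem hs_rs {O' O : Y.Opens} (h : O' ≤ O) (h' : O' ≤ 𝟙 Y ⁻¹ᵁ O) (q : ℕ) (e : Supp.HS M O q) :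
    hs M O' q (Cl.rs h (EtCoh.const Y M) q e) = H327.HS.pull M (𝟙 Y) h' q (hs M O q e) := by
  rw [rs_eq_plc M h h', hs_plc]

/-- **Decomposition of supports.** -/
theorem exists_decomp {O₁ O₂ : Y.Opens} (h12 : O₁ ⊔ O₂ = ⊤) (h₁ : O₁ ⊓ O₂ ≤ 𝟙 Y ⁻¹ᵁ O₁)
    (h₂ : O₁ ⊓ O₂ ≤ 𝟙 Y ⁻¹ᵁ O₂) (q : ℕ) (z : H327.HS M (O₁ ⊓ O₂) q) :
    ∃ (z₁ : H327.HS M O₁ q) (z₂ : H327.HS M O₂ q),
      z = H327.HS.pull M (𝟙 Y) h₁ q z₁ + H327.HS.pull M (𝟙 Y) h₂ q z₂ := by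
  obtain ⟨y₁, y₂, hy⟩ := Cl.exists_decomp h12 (EtCoh.const Y M) q ((hs M _ q).symm z)
  refine ⟨hs M O₁ q y₁, hs M O₂ q y₂, ?_⟩
  rw [← hs_rs M inf_le_left, ← hs_rs M inf_le_right, ← map_add, ← hy, AddEquiv.apply_symm_apply]

/-- **Decomposition of a class supported in a finite set of closed points.** -/
theorem exists_decomp_finset (Ox : Y → Y.Opens) (s : Finset Y)
    (hx : ∀ x ∈ s, ∀ y, y ∉ Ox x ↔ y = x) {O : Y.Opens} (hO : ∀ y, y ∉ O ↔ y ∈ s) {q : ℕ}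
    (z : H327.HS M O q) :
    ∃ zs : ∀ x, H327.HS M (Ox x) q,
      H327.HS.forget M O q z = ∑ x ∈ s, H327.HS.forget M (Ox x) q (zs x) ∧
      ∀ x ∈ s, ∀ {V : Scheme.{u}} (g : V ⟶ Y) (_ : ∀ v, g v ∈ s → g v = x) (O' : V.Opens)
        (h : O' ≤ g ⁻¹ᵁ Ox x) (h' : O' ≤ g ⁻¹ᵁ O),
          H327.HS.pull M g h' q z = H327.HS.pull M g h q (zs x) := by
  obtain ⟨ys, h1, h2⟩ := Decomp.exists_decomp_finset M Ox s hx hO ((hs M O q).symm z)
  refine ⟨fun x => hs M (Ox x) q (ys x), ?_, ?_⟩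
  · rw [← fg_hs_symm, h1]
    exact Finset.sum_congr rfl fun x _ => (forget_hs M (Ox x) q (ys x)).symm
  · intro x hx' V g hg O' h h'
    have h3 := h2 x hx' g hg O' h h'
    rw [← hs_plc, ← h3, hs_plc, AddEquiv.apply_symm_apply]

end

end Groth.Agent.Vancyc.H158.Bridge
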