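import Groth.Agent.Vancyc.H158.Bridge
import Groth.Agent.Vancyc.H158.B1Wrap

/-!
# The dictionary `R^i(X) = H^i(X, ℤ/n)` in the notation of `H327.Supp`

`trL_res`, `resL_symm`, `resL_symm_forget`, `symmL_forget`, `existsL_forget`, and (B1) for a class
`c : H327.HS (ZMod (ℓ ^ N)) O (2 * d)` with supports in the diagonal (`to_forget`).
-/

set_option autoImplicit false

universe u

open CategoryTheory CategoryTheory.Limits AlgebraicGeometry Opposite Abelian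

namespace Groth.Agent.Vancyc.H158.BridgeTR

open Groth.Agent.Etcore.EtInst Groth.Agent.Sga5.H861.Res Groth.Agent.Sga5.H861.DualAbs
open Groth.Agent.Sga4h.H556 Groth.Agent.Vancyc.H158.TrLam Groth.Agent.Vancyc.H158.Bridge
open scoped Groth.Agent.Etcore.EtInst Groth.Agent.Sga4B.ModEtInst

variable {n : ℕ} {X Y Z : Scheme.{u}}

theorem trL_hpull (f : X ⟶ Y) (i : ℕ) (x : R (Lam.{u} n) Y i) :
    trL n X i (res f i x) = H327.hpull (ZMod n) f i (trL n Y i x) := trL_res f i x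

theorem res_symm_hpull (f : X ⟶ Y) (i : ℕ) (y : HH Y (EtCoh.const Y (ZMod n)) i) :
    res f i ((trL n Y i).symm y) = (trL n X i).symm (H327.hpull (ZMod n) f i y) := resL_symm f i y

theorem res_symm_forget (g : X ⟶ Y) {O : Y.Opens} (h : ⊤ ≤ g ⁻¹ᵁ O) (m : ℕ)
    (c : H327.HS (ZMod n) O m) :
    res g m ((trL n Y m).symm (H327.HS.forget (ZMod n) O m c)) = 0 := by
  rw [← fg_hs_symm]
  exact resL_symm_fg g h m _

theorem res_symm_forget_pull (g : X ⟶ Y) {O : Y.Opens} {O' : X.Opens} (h : O' ≤ g ⁻¹ᵁ O) (m : ℕ)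
    (c : H327.HS (ZMod n) O m) : res g m ((trL n Y m).symm (H327.HS.forget (ZMod n) O m c)) =
      (trL n X m).symm (H327.HS.forget (ZMod n) O' m (H327.HS.pull (ZMod n) g h m c)) := by
  rw [H327.HS.forget_pull]
  exact resL_symm g m _

theorem exists_forget {O : Y.Opens} (m : ℕ) (x : R (Lam.{u} n) Y m) (hx : res O.ι m x = 0) :
    ∃ c : H327.HS (ZMod n) O m, (trL n Y m).symm (H327.HS.forget (ZMod n) O m c) = x := by
  obtain ⟨c, hc⟩ := existsL_fg m x hx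
  refine ⟨hs (ZMod n) O m c, ?_⟩
  rw [forget_hs]
  exact hc

variable {k : Type u} [Field k] {a : X ⟶ Spec (CommRingCat.of k)}

/-- (B1) for a class with supports in the diagonal (from the conclusion of `B1Wrap.to_hc`). -/
theorem to_forget {d ℓ : ℕ} (H :
    ∃ e : ℕ, ∀ (N : ℕ) (c : HH (pullback a a) (EtCoh.const _ (ZMod (ℓ ^ N))) (2 * d))
      (t : HH X (EtCoh.const X (ZMod (ℓ ^ N))) (2 * d) →+ ZMod (ℓ ^ N))
      (x : Spec (CommRingCat.of k) ⟶ X) (s : X ⟶ pullback a a)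
      (_hs1 : s ≫ pullback.fst a a = a ≫ x) (_hs2 : s ≫ pullback.snd a a = 𝟙 X),
      (∀ {U : Scheme.{u}} (j : U ⟶ pullback a a) [IsOpenImmersion j],
        IsCompl (Set.range (pullback.diagonal a)) (Set.range j) →
          Supp.hc (ZMod (ℓ ^ N)) j (2 * d) c = 0) →
      t (Supp.hc (ZMod (ℓ ^ N)) s (2 * d) c) = 1 →
      (ℓ : ZMod (ℓ ^ N)) ^ e * t (Supp.hc (ZMod (ℓ ^ N)) (pullback.diagonal a) (2 * d) c) =
        (ℓ : ZMod (ℓ ^ N)) ^ e * ((VanCyc.euler ℓ X (2 * d) : ℤ) : ZMod (ℓ ^ N))) :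
    ∃ e : ℕ, ∀ (N : ℕ) (O : (pullback a a).Opens)
      (_hO : (O : Set ↥(pullback a a)) = (Set.range (pullback.diagonal a))ᶜ)
      (c : H327.HS (ZMod (ℓ ^ N)) O (2 * d))
      (t : H327.HC (ZMod (ℓ ^ N)) X (2 * d) →+ ZMod (ℓ ^ N))
      (x : Spec (CommRingCat.of k) ⟶ X) (s : X ⟶ pullback a a)
      (_hs1 : s ≫ pullback.fst a a = a ≫ x) (_hs2 : s ≫ pullback.snd a a = 𝟙 X),
      t (H327.hpull (ZMod (ℓ ^ N)) s (2 * d)
        (H327.HS.forget (ZMod (ℓ ^ N)) O (2 * d) c)) = 1 →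
      (ℓ : ZMod (ℓ ^ N)) ^ e * t (H327.hpull (ZMod (ℓ ^ N)) (pullback.diagonal a) (2 * d)
          (H327.HS.forget (ZMod (ℓ ^ N)) O (2 * d) c)) =
        (ℓ : ZMod (ℓ ^ N)) ^ e * ((VanCyc.euler ℓ X (2 * d) : ℤ) : ZMod (ℓ ^ N)) := by
  obtain ⟨e, he⟩ := B1Wrap.to_hs H
  refine ⟨e, fun N O hO c t x s hs1 hs2 h1 => ?_⟩
  have h := he N O hO ((hs (ZMod (ℓ ^ N)) O (2 * d)).symm c) t x s hs1 hs2
  rw [fg_hs_symm] at h
  exact h h1

end Groth.Agent.Vancyc.H158.BridgeTR
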