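import Groth.Agent.Vancyc.H158.Tr
import Groth.Agent.Sga5.H861.DualAbs

/-!
# The dictionary of `H158.Tr` for the coefficient ring written `DualAbs.Lam n`

`DualAbs.Lam n` is an abbreviation of `ULift (ZMod n)`, but converting statements about `Ext` in
`EtModW.Mod` from one form to the other costs 20 seconds of kernel time each, so the lemmas are
restated for `Lam n`: `trL`, `trL_res`, `resL_symm`, `resL_eq_zero_iff`, `resL_symm_fg`, `symmL_fg`,
`existsL_fg`.
-/

set_option autoImplicit false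

universe u

open CategoryTheory CategoryTheory.Limits CategoryTheory.Abelian AlgebraicGeometry Opposite

namespace Groth.Agent.Vancyc.H158.TrLam

open Groth.Agent.Etrest.ModAb Groth.Agent.Etcore Groth.Agent.Etcore.EtInst
open Groth.Agent.Etcore.HpullCalc Groth.Agent.Sga4h.H915.Dict Groth.Agent.Sga4h.H915.DictConst
open Groth.Agent.Sga5.H861.Res Groth.Agent.Sga4h.H556.Supp Groth.Agent.Sga4B.DualShape
open Groth.Agent.Sga4h.H556.Cl Groth.Agent.Sga5.H861.DualAbs Groth.Agent.Vancyc.H158.Tr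
open scoped Groth.Agent.Etcore.EtInst Groth.Agent.Sga4B.ModEtInst

variable {n : ℕ} {X Y Z U : Scheme.{u}}

variable (n) in
/-- **The comparison isomorphism** `Ext^i(Λ_X, Λ_X) ≃ H^i(X, ℤ/n)`. -/
noncomputable def trL (X : Scheme.{u}) (i : ℕ) :
    R (Lam.{u} n) X i ≃+ HH X (EtCoh.const X (ZMod n)) i :=
  cmpC (Λ := Lam.{u} n) (X := X) i

/-- **Compatibility with inverse images.** -/
theorem trL_res (f : X ⟶ Y) (i : ℕ) (x : R (Lam.{u} n) Y i) :
    trL n X i (res f i x) = hc (ZMod n) f i (trL n Y i x) := by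
  have i1 : PreservesFiniteLimits (EtCoh.pull f) := Groth.Agent.S0101.result f
  rw [hc_apply]
  exact cmpC_res (Λ := Lam.{u} n) f i x

theorem resL_symm (f : X ⟶ Y) (i : ℕ) (y : HH Y (EtCoh.const Y (ZMod n)) i) :
    res f i ((trL n Y i).symm y) = (trL n X i).symm (hc (ZMod n) f i y) := by
  rw [AddEquiv.eq_symm_apply, trL_res, AddEquiv.apply_symm_apply]

theorem resL_eq_zero_iff (f : X ⟶ Y) (i : ℕ) (x : R (Lam.{u} n) Y i) :
    res f i x = 0 ↔ hc (ZMod n) f i (trL n Y i x) = 0 := by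
  rw [← trL_res, map_eq_zero_iff _ (trL n X i).injective]

/-- **A class with supports in the complement of `O` restricts to zero over `O`.** -/
theorem resL_symm_fg (g : X ⟶ Y) {O : Y.Opens} (h : ⊤ ≤ g ⁻¹ᵁ O) (m : ℕ) (c : HS (ZMod n) O m) :
    res g m ((trL n Y m).symm (fg O _ m c)) = 0 := by
  rw [resL_symm, hc_fg_eq_zero (ZMod n) g h, map_zero]

/-- Pull-back of classes with supports and `res`. -/
theorem symmL_fg (g : X ⟶ Y) {O : Y.Opens} {O' : X.Opens} (h : O' ≤ g ⁻¹ᵁ O) (m : ℕ)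
    (c : HS (ZMod n) O m) : res g m ((trL n Y m).symm (fg O _ m c)) =
      (trL n X m).symm (fg O' _ m (plc (ZMod n) g h m c)) := by
  rw [resL_symm, fg_plc]

/-- A class of `R^m(Y)` which restricts to zero over `O` has supports in the complement of `O`. -/
theorem existsL_fg {O : Y.Opens} (m : ℕ) (x : R (Lam.{u} n) Y m) (hx : res O.ι m x = 0) :
    ∃ c : HS (ZMod n) O m, (trL n Y m).symm (fg O _ m c) = x := by
  obtain ⟨c, hc⟩ := exists_fg_const (O := O) (ZMod n) m (trL n Y m x)
    ((resL_eq_zero_iff O.ι m x).1 hx)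
  exact ⟨c, by rw [hc, AddEquiv.symm_apply_apply]⟩

end Groth.Agent.Vancyc.H158.TrLam
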